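import Mathlib

/-!
# Project JR (S3206): second half of [MULT]

If the preimage in `L` of one Sylow 2-subgroup of `G ≅ L/Z` is commutative, `L` is perfect and
`Z` is a central 2-subgroup, then `Z = ⊥` (transfer into the preimage).
-/

set_option autoImplicit false

namespace Cfsg.Agent.Lib.Helper67.JR

universe u

theorem mult_of_abelian (G : Type u) [Group G] [Finite G] (L : Type) [Group L] [Finite L]
    (Z : Subgroup L) [Z.Normal] (hperf : commutator L = ⊤) (hZc : Z ≤ Subgroup.center L)
    (hZ2 : IsPGroup 2 ↥Z) (e : L ⧸ Z ≃* G) (S : Sylow 2 G)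
    (hab : ∀ x y : L, e (QuotientGroup.mk x) ∈ (S : Subgroup G) →
      e (QuotientGroup.mk y) ∈ (S : Subgroup G) → x * y = y * x) : Z = ⊥ := by
  classical
  haveI : Fact (Nat.Prime 2) := ⟨Nat.prime_two⟩
  -- the projection
  let π : L →* G := e.toMonoidHom.comp (QuotientGroup.mk' Z)
  have hπ : ∀ x : L, π x = e (QuotientGroup.mk x) := fun x => rfl
  have hπsurj : Function.Surjective π := by
    intro g
    obtain ⟨q, hq⟩ := e.surjective g
    obtain ⟨x, rfl⟩ := QuotientGroup.mk_surjective q
    exact ⟨x, hq⟩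
  have hker : ∀ x : L, π x = 1 ↔ x ∈ Z := by
    intro x
    rw [hπ, MulEquiv.map_eq_one_iff, QuotientGroup.eq_one_iff]
  -- the preimage of `S`
  let H : Subgroup L := (S : Subgroup G).comap π
  have hZH : Z ≤ H := by
    intro z hz
    change π z ∈ (S : Subgroup G)
    rw [(hker z).mpr hz]
    exact Subgroup.one_mem _
  have hHcomm : ∀ x y : ↥H, x * y = y * x := by
    intro x y
    exact Subtype.ext (hab x y x.2 y.2)
  letI : CommGroup ↥H := { (inferInstance : Group ↥H) with mul_comm := hHcomm }
  -- the index of `H` is odd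
  have hidx : H.index = (S : Subgroup G).index := Subgroup.index_comap_of_surjective _ hπsurj
  have hodd : ¬ 2 ∣ H.index := by
    rw [hidx]
    exact S.not_dvd_index
  -- every homomorphism from `L` to a commutative group is trivial
  have htriv : ∀ (f : L →* ↥H) (x : L), f x = 1 := by
    intro f x
    have h1 : commutator L ≤ f.ker := Abelianization.commutator_subset_ker f
    rw [hperf] at h1
    exact h1 (Subgroup.mem_top x)
  rw [Subgroup.eq_bot_iff_forall]
  intro z hz
  have hcen : ∀ g : L, g * z = z * g := fun g => (Subgroup.mem_center_iff.mp (hZc hz)) g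
  have key : ∀ (k : ℕ) (g₀ : L), g₀⁻¹ * z ^ k * g₀ ∈ H → g₀⁻¹ * z ^ k * g₀ = z ^ k := by
    intro k g₀ _
    have h2 : g₀ * z ^ k = z ^ k * g₀ := by
      have := (Subgroup.mem_center_iff.mp ((Subgroup.center L).pow_mem (hZc hz) k)) g₀
      exact this
    rw [mul_assoc, ← h2, inv_mul_cancel_left]
  have h3 := MonoidHom.transfer_eq_pow (MonoidHom.id ↥H) z key
  rw [htriv] at h3
  have h4 : z ^ H.index = 1 := by
    have := congrArg Subtype.val h3
    simpa using this.symm
  obtain ⟨k, hk⟩ := hZ2 ⟨z, hz⟩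
  have h5 : z ^ (2 ^ k) = 1 := by
    have := congrArg Subtype.val hk
    simpa using this
  have h6 : orderOf z ∣ H.index := orderOf_dvd_of_pow_eq_one h4
  have h7 : orderOf z ∣ 2 ^ k := orderOf_dvd_of_pow_eq_one h5
  have h8 : Nat.Coprime (2 ^ k) H.index :=
    Nat.Coprime.pow_left k ((Nat.Prime.coprime_iff_not_dvd Nat.prime_two).mpr hodd)
  have h9 : orderOf z = 1 := Nat.eq_one_of_dvd_coprimes h8 h7 h6
  exact orderOf_eq_one_iff.mp h9

end Cfsg.Agent.Lib.Helper67.JR
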